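import Groth.Agent.SmStrat.Domain
import Groth.Agent.ConsPropLib.NoethApprox
import Mathlib

/-!
# Smooth filtrations near a generic point
-/

universe u

attribute [-instance] CategoryTheory.catToReflQuiver
set_option autoImplicit false
set_option linter.style.haveILetI false
set_option backward.isDefEq.respectTransparency false
set_option backward.isDefEq.respectTransparency.types false

open CategoryTheory CategoryTheory.Limits AlgebraicGeometry TopologicalSpace
open Groth.Agent.ConsPropLib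

noncomputable section

namespace Groth.Agent.SmStrat

/-- An element of a minimal prime of a reduced ring is killed outside the prime. -/
theorem exists_notMem_mul_eq_zero {A : Type u} [CommRing A] [_root_.IsReduced A] {p : Ideal A} [p.IsPrime]
    (hp : p ∈ minimalPrimes A) {x : A} (hx : x ∈ p) : ∃ s ∉ p, s * x = 0 := by
  let L := Localization.AtPrime p
  haveI : Ring.KrullDimLE 0 L := Ring.KrullDimLE.of_isLocalization p hp L
  letI : Field L := (Ring.KrullDimLE.isField_of_isReduced (R := L)).toField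
  have h : algebraMap A L x = 0 := by
    by_contra h
    exact (IsLocalization.AtPrime.isUnit_to_map_iff L p x).1 (isUnit_iff_ne_zero.2 h) hx
  obtain ⟨s, hs⟩ := (IsLocalization.map_eq_zero_iff p.primeCompl L x).1 h
  exact ⟨s.1, s.2, hs⟩

theorem exists_good_near_generic {X S : Scheme.{u}} (f : X ⟶ S) [LocallyOfFinitePresentation f] [QuasiCompact f]
    [QuasiSeparated f] [IsReduced S] (η : S) (hη : ∀ z : S, z ⤳ η → z = η) :
    ∃ (U : S.Opens) (V : Scheme.{u}) (v : V ⟶ (U : Scheme.{u})), η ∈ U ∧ Surjective v ∧ UniversallyInjective v ∧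
      Mor2.IsFinLocFree v ∧ ∃ (t : ℕ) (J : Fin (t + 1) → (pullback f (v ≫ U.ι)).IdealSheafData),
        Good (pullback.snd f (v ≫ U.ι)) t J := by
  classical
  obtain ⟨Ua, hUa, hηU, -⟩ := exists_isAffineOpen_mem_and_subset (U := (⊤ : S.Opens)) (x := η) trivial
  let A := Γ(S, Ua)
  haveI : _root_.IsReduced A := IsReduced.component_reduced Ua
  let q := hUa.primeIdealOf ⟨η, hηU⟩
  have hqη : hUa.fromSpec q = η := hUa.fromSpec_primeIdealOf ⟨η, hηU⟩
  have hmin : q.asIdeal ∈ minimalPrimes A := by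
    refine ⟨⟨q.isPrime, bot_le⟩, fun r hr hle => ?_⟩
    haveI := hr.1
    have h1 : (⟨r, hr.1⟩ : PrimeSpectrum A) ⤳ q := (PrimeSpectrum.le_iff_specializes _ q).1 hle
    have h2 : hUa.fromSpec (⟨r, hr.1⟩ : PrimeSpectrum A) = hUa.fromSpec q := by
      rw [hqη]; exact hη _ (hqη ▸ h1.map hUa.fromSpec.continuous)
    exact (congrArg PrimeSpectrum.asIdeal (hUa.fromSpec.isOpenEmbedding.injective h2)).ge
  let fA := pullback.snd f hUa.fromSpec
  obtain ⟨i, Xi, fi, gi, hm⟩ := hasModel (NoethApprox.isLimit A) (show pullback f hUa.fromSpec ⟶ (NoethApprox.cone A).pt from fA)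
  let A₀ := Algebra.adjoin ℤ ((i.unop : Finset A) : Set A)
  haveI : Algebra.FiniteType ℤ A₀ := Algebra.FiniteType.adjoin_of_finite (Finset.finite_toSet _)
  haveI : IsNoetherianRing A₀ := Algebra.FiniteType.isNoetherianRing ℤ _
  let p₀ : Ideal A₀ := q.asIdeal.comap A₀.val.toRingHom
  haveI := q.isPrime
  obtain ⟨gens, hgens⟩ := (IsNoetherian.noetherian p₀ : Submodule.FG _)
  choose s hs hsx using fun x : gens => exists_notMem_mul_eq_zero hmin
    (show A₀.val x.1 ∈ q.asIdeal from hgens.le (Submodule.subset_span x.2))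
  let g : A := ∏ x, s x
  have hg : g ∉ q.asIdeal := fun h => by
    obtain ⟨x, -, hx⟩ := (q.isPrime.prod_mem_iff).1 h
    exact hs x hx
  let Ag := Localization.Away g
  have hkill : ∀ r ∈ p₀, algebraMap A Ag (A₀.val r) = 0 := by
    intro r hr
    have hle : p₀ ≤ RingHom.ker ((algebraMap A Ag).comp A₀.val.toRingHom) := by
      rw [← hgens, Submodule.span_le]
      intro x hx
      refine (IsLocalization.Away.algebraMap_isUnit g).mul_right_eq_zero.1 ?_
      show algebraMap A Ag g * algebraMap A Ag (A₀.val x) = 0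
      rw [← map_mul, show g * A₀.val x = (∏ y ∈ Finset.univ.erase ⟨x, hx⟩, s y) * (s ⟨x, hx⟩ * A₀.val x) by
        rw [← mul_assoc, Finset.prod_erase_mul _ _ (Finset.mem_univ _)], hsx, mul_zero, map_zero]
    exact hle hr
  let R := CommRingCat.of (A₀ ⧸ p₀)
  haveI : IsDomain R := Ideal.Quotient.isDomain p₀
  haveI : IsNoetherianRing R := inferInstanceAs (IsNoetherianRing (A₀ ⧸ p₀))
  let πR : CommRingCat.of A₀ ⟶ R := CommRingCat.ofHom (Ideal.Quotient.mk p₀)
  let ρ : R ⟶ CommRingCat.of Ag :=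
    CommRingCat.ofHom (Ideal.Quotient.lift p₀ ((algebraMap A Ag).comp A₀.val.toRingHom) hkill)
  haveI := hm.lfp; haveI := hm.qc; haveI := hm.qs
  let fi' : Xi ⟶ Spec (CommRingCat.of A₀) := fi
  let fR := pullback.snd fi' (Spec.map πR)
  obtain ⟨O, V₀, v₀, hO, hsurj, hui, ⟨hfin, hflat, hlfp⟩, t, J, hgood⟩ := exists_good_near fR
  let ℓ := Spec.map (CommRingCat.ofHom (algebraMap A Ag))
  haveI : IsOpenImmersion ℓ := IsOpenImmersion.of_isLocalization g
  let O' : (Spec (CommRingCat.of Ag)).Opens := Spec.map ρ ⁻¹ᵁ O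
  let j' : (O' : Scheme.{u}) ⟶ S := O'.ι ≫ ℓ ≫ hUa.fromSpec
  let w := pullback.fst (Spec.map ρ ∣_ O) v₀
  let b := pullback.snd (Spec.map ρ ∣_ O) v₀
  let v : pullback (Spec.map ρ ∣_ O) v₀ ⟶ (j'.opensRange : Scheme.{u}) := w ≫ j'.isoOpensRange.hom
  have hv : v ≫ j'.opensRange.ι = w ≫ O'.ι ≫ ℓ ≫ hUa.fromSpec := by
    rw [Category.assoc, Scheme.Hom.isoOpensRange_hom_ι]
  have hηO : η ∈ j'.opensRange := by
    obtain ⟨q', hq'⟩ : q ∈ Set.range (PrimeSpectrum.comap (algebraMap A Ag)) := by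
      rw [PrimeSpectrum.localization_away_comap_range Ag g]; exact hg
    have hq'O : PrimeSpectrum.comap ρ.hom q' = (⟨⊥, Ideal.isPrime_bot⟩ : PrimeSpectrum R) := by
      refine PrimeSpectrum.ext (le_antisymm (fun r hr => ?_) bot_le)
      obtain ⟨a, rfl⟩ := Ideal.Quotient.mk_surjective r
      have ha : A₀.val a ∈ q.asIdeal := hq' ▸ (show algebraMap A Ag (A₀.val a) ∈ q'.asIdeal from hr)
      exact Ideal.Quotient.eq_zero_iff_mem.2 ha
    refine ⟨⟨q', show PrimeSpectrum.comap ρ.hom q' ∈ O from hq'O ▸ hO⟩, ?_⟩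
    show hUa.fromSpec (PrimeSpectrum.comap (algebraMap A Ag) q') = η
    rw [hq', hqη]
  haveI : Surjective v := MorphismProperty.comp_mem @Surjective w j'.isoOpensRange.hom
    (MorphismProperty.pullback_fst _ _ hsurj) inferInstance
  haveI : UniversallyInjective v := MorphismProperty.comp_mem @UniversallyInjective w j'.isoOpensRange.hom
    (MorphismProperty.pullback_fst _ _ hui) inferInstance
  haveI : IsFinite w := MorphismProperty.pullback_fst _ _ hfin
  haveI : Flat w := MorphismProperty.pullback_fst _ _ hflat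
  haveI : LocallyOfFinitePresentation w := MorphismProperty.pullback_fst _ _ hlfp
  refine ⟨j'.opensRange, pullback (Spec.map ρ ∣_ O) v₀, v, hηO, inferInstance, inferInstance,
    ⟨inferInstance, inferInstance, inferInstance⟩, t, ?_⟩
  let a := w ≫ O'.ι ≫ ℓ
  have hva : v ≫ j'.opensRange.ι = a ≫ hUa.fromSpec := by rw [hv]; simp only [a, Category.assoc]
  let l : pullback f (v ≫ j'.opensRange.ι) ⟶ pullback f hUa.fromSpec :=
    pullback.lift (pullback.fst _ _) (pullback.snd _ _ ≫ a)
      (pullback.condition.trans ((congrArg (pullback.snd _ _ ≫ ·) hva).trans (Category.assoc _ _ _).symm))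
  have h1 : IsPullback l (pullback.snd f (v ≫ j'.opensRange.ι)) fA a := by
    refine IsPullback.of_right ?_ (pullback.lift_snd _ _ _) (IsPullback.of_hasPullback f hUa.fromSpec)
    rw [pullback.lift_fst, ← hva]
    exact IsPullback.of_hasPullback _ _
  have h2 : IsPullback (l ≫ gi) (pullback.snd f (v ≫ j'.opensRange.ι)) fi'
      (a ≫ Spec.map (CommRingCat.ofHom A₀.val.toRingHom)) := h1.paste_horiz hm.sq
  have hb : a ≫ Spec.map (CommRingCat.ofHom A₀.val.toRingHom) = b ≫ (v₀ ≫ O.ι) ≫ Spec.map πR := by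
    have e1 : b ≫ v₀ ≫ O.ι = w ≫ O'.ι ≫ Spec.map ρ := by
      rw [← pullback.condition_assoc, morphismRestrict_ι]
    rw [Category.assoc v₀, ← Category.assoc b, ← Category.assoc (b ≫ v₀), Category.assoc b, e1]
    simp only [a, ℓ, Category.assoc, ← Spec.map_comp]
    rfl
  rw [hb] at h2
  have h3 : IsPullback (pullback.fst fR (v₀ ≫ O.ι) ≫ pullback.fst fi' (Spec.map πR)) (pullback.snd fR (v₀ ≫ O.ι))
      fi' ((v₀ ≫ O.ι) ≫ Spec.map πR) :=
    (IsPullback.of_hasPullback fR (v₀ ≫ O.ι)).paste_horiz (IsPullback.of_hasPullback fi' (Spec.map πR))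
  let m := h3.lift (l ≫ gi) (pullback.snd f (v ≫ j'.opensRange.ι) ≫ b) (h2.w.trans (Category.assoc _ _ _).symm)
  have sq : IsPullback m (pullback.snd f (v ≫ j'.opensRange.ι)) (pullback.snd fR (v₀ ≫ O.ι)) b := by
    refine IsPullback.of_right ?_ (h3.lift_snd _ _ _) h3
    rw [h3.lift_fst]
    exact h2
  exact ⟨_, hgood.comap sq⟩

end Groth.Agent.SmStrat
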