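import Groth.Agent.SmStrat.Basic
import Groth.Agent.S2769
import Mathlib

/-!
# Smooth filtrations over a field, after a finite purely inseparable extension
-/

universe u

set_option autoImplicit false
set_option linter.style.haveILetI false

open CategoryTheory CategoryTheory.Limits AlgebraicGeometry TopologicalSpace

noncomputable section

namespace Groth.Agent.SmStrat

variable {Y Y' B B' : Scheme.{u}}

/-- A closed set filtered with smooth reduced strata. -/
inductive Chain (g : Y ⟶ B) : Closeds Y → Prop
  | empty : Chain g ⊥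
  | step {C D : Closeds Y} : D ≤ C → Smooth (vsι C D ≫ g) → Chain g D → Chain g C

theorem Chain.exists_fin {g : Y ⟶ B} {C : Closeds Y} (h : Chain g C) :
    ∃ (t : ℕ) (T : Fin (t + 1) → Closeds Y), Antitone T ∧ T 0 = C ∧ T (Fin.last t) = ⊥ ∧
      ∀ i : Fin t, Smooth (vsι (T i.castSucc) (T i.succ) ≫ g) := by
  induction h with
  | empty => exact ⟨0, fun _ => ⊥, antitone_const, rfl, rfl, fun i => i.elim0⟩
  | @step C D hDC hs _ ih =>
    obtain ⟨t, T, hT, h0, hl, hsm⟩ := ih
    refine ⟨t + 1, Fin.cons C T, ?_, rfl, by rw [← Fin.succ_last, Fin.cons_succ, hl], fun i => ?_⟩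
    · refine Fin.antitone_iff_succ_le.2 fun i => ?_
      induction i using Fin.cases with
      | zero =>
        simp only [Fin.castSucc_zero, Fin.cons_zero, Fin.cons_succ, h0]
        exact hDC
      | succ i =>
        rw [← Fin.succ_castSucc, Fin.cons_succ, Fin.cons_succ]
        exact hT (Fin.castSucc_le_succ i)
    · induction i using Fin.cases with
      | zero =>
        rw [Fin.castSucc_zero, Fin.cons_zero, Fin.cons_succ, h0]
        exact hs
      | succ i =>
        rw [← Fin.succ_castSucc, Fin.cons_succ, Fin.cons_succ]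
        exact hsm i

/-- Smooth reduced strata over a field stay so under extensions of the field. -/
theorem Chain.preimage {K L : Type u} [Field K] [Field L] {b : Spec (CommRingCat.of L) ⟶ Spec (CommRingCat.of K)}
    {g : Y ⟶ Spec (CommRingCat.of K)} {g' : Y' ⟶ Spec (CommRingCat.of L)} {m : Y' ⟶ Y}
    (sq : IsPullback m g' g b) {C : Closeds Y} (h : Chain g C) : Chain g' (C.preimage m.continuous) := by
  induction h with
  | empty =>
    rw [show (⊥ : Closeds Y).preimage m.continuous = ⊥ from Closeds.ext (Set.preimage_empty (f := m))]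
    exact .empty
  | @step C D hDC hs _ ih =>
    refine .step (fun x hx => hDC hx) ?_ ih
    let S := Scheme.IdealSheafData.vanishingIdeal C
    let S' := Scheme.IdealSheafData.vanishingIdeal D
    haveI := hs
    haveI := smooth_sι_comap sq S S'
    haveI := GrpSchLib.isReduced_of_smooth_field (sι (S.comap m) (S'.comap m) ≫ g')
    refine smooth_vsι g' (sι (S.comap m) (S'.comap m)) ?_
    rw [range_sι, Scheme.IdealSheafData.support_comap, Scheme.IdealSheafData.support_comap]
    show m ⁻¹' (S.support : Set Y) \ m ⁻¹' (S'.support : Set Y) = m ⁻¹' (C : Set Y) \ m ⁻¹' (D : Set Y)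
    rw [Scheme.IdealSheafData.coe_support_vanishingIdeal, Scheme.IdealSheafData.coe_support_vanishingIdeal]

variable (k : Type u) [Field k] {X : Scheme.{u}} (f : X ⟶ Spec (CommRingCat.of k))

/-- The base change of `X` to a field extension. -/
abbrev bcSq (E : Type u) [Field E] [Algebra k E] := pullback f (Spec.map (CommRingCat.ofHom (algebraMap k E)))

theorem exists_chain_closed [LocallyOfFiniteType f] [QuasiCompact f] (C : Closeds X) :
    ∃ (E : Type u) (_ : Field E) (_ : Algebra k E) (_ : Module.Finite k E) (_ : IsPurelyInseparable k E),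
      Chain (pullback.snd f (Spec.map (CommRingCat.ofHom (algebraMap k E))))
        (C.preimage (pullback.fst f (Spec.map (CommRingCat.ofHom (algebraMap k E)))).continuous) := by
  haveI : IsLocallyNoetherian X := LocallyOfFiniteType.isLocallyNoetherian f
  haveI : CompactSpace X := QuasiCompact.compactSpace_of_compactSpace f
  haveI : IsNoetherian X := {}
  induction C using WellFoundedLT.induction with
  | ind C ih =>
    rcases eq_or_ne C ⊥ with rfl | hC
    · refine ⟨k, inferInstance, inferInstance, inferInstance, inferInstance, ?_⟩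
      convert Chain.empty (g := pullback.snd f (Spec.map (CommRingCat.ofHom (algebraMap k k)))) using 1
      exact Closeds.ext (Set.preimage_empty (f := pullback.fst f (Spec.map (CommRingCat.ofHom (algebraMap k k)))))
    let I := Scheme.IdealSheafData.vanishingIdeal C
    obtain ⟨U, hU, E₁, _, _, _, _, Z, _, i, hi, hsurj, hsm⟩ := S2769.result k (I.subschemeι ≫ f)
    have hrC : Set.range I.subschemeι = (C : Set X) := by
      rw [Scheme.IdealSheafData.range_subschemeι, Scheme.IdealSheafData.coe_support_vanishingIdeal]
    let D : Closeds X := ⟨I.subschemeι '' (U : Set I.subscheme)ᶜ, I.subschemeι.isClosedEmbedding.isClosedMap _ U.2.isClosed_compl⟩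
    have hDC : D ≤ C := fun x hx => hrC.le (Set.image_subset_range _ _ hx)
    have hlt : D < C := by
      refine lt_of_le_of_ne hDC fun h => ?_
      obtain ⟨c, hc⟩ := Set.nonempty_iff_ne_empty.2 (fun he : (C : Set X) = ∅ => hC (Closeds.ext he))
      obtain ⟨z, -⟩ := hrC.ge hc
      haveI : Nonempty I.subscheme := ⟨z⟩
      obtain ⟨w, hw⟩ := hU.nonempty
      obtain ⟨w', hw', hww⟩ := h.ge (hrC.le ⟨w, rfl⟩)
      exact hw' (I.subschemeι.isEmbedding.injective hww ▸ hw)
    obtain ⟨E₂, _, _, _, _, hch⟩ := ih D hlt
    -- a common extension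
    let F₁ : IntermediateField k (AlgebraicClosure k) := (IsAlgClosed.lift : E₁ →ₐ[k] AlgebraicClosure k).fieldRange
    let F₂ : IntermediateField k (AlgebraicClosure k) := (IsAlgClosed.lift : E₂ →ₐ[k] AlgebraicClosure k).fieldRange
    let e₁ : E₁ ≃ₐ[k] F₁ := AlgEquiv.ofInjectiveField _
    let e₂ : E₂ ≃ₐ[k] F₂ := AlgEquiv.ofInjectiveField _
    haveI : FiniteDimensional k F₁ := Module.Finite.equiv e₁.toLinearEquiv
    haveI : FiniteDimensional k F₂ := Module.Finite.equiv e₂.toLinearEquiv
    haveI : IsPurelyInseparable k F₁ := e₁.isPurelyInseparable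
    haveI : IsPurelyInseparable k F₂ := e₂.isPurelyInseparable
    let E := ↥(F₁ ⊔ F₂)
    let j₁ : E₁ →ₐ[k] E := (IntermediateField.inclusion le_sup_left).comp e₁.toAlgHom
    let j₂ : E₂ →ₐ[k] E := (IntermediateField.inclusion le_sup_right).comp e₂.toAlgHom
    let a := Spec.map (CommRingCat.ofHom (algebraMap k E))
    have hb : ∀ {F : Type u} [Field F] [Algebra k F] (j : F →ₐ[k] E),
        Spec.map (CommRingCat.ofHom j.toRingHom) ≫ Spec.map (CommRingCat.ofHom (algebraMap k F)) = a :=
      fun j => by
        rw [← Spec.map_comp]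
        exact congrArg Spec.map (CommRingCat.hom_ext j.comp_algebraMap)
    refine ⟨E, inferInstance, inferInstance, inferInstance, inferInstance,
      .step (D := D.preimage (pullback.fst f a).continuous) (fun x hx => hDC hx) ?_ ?_⟩
    · let b₁ := Spec.map (CommRingCat.ofHom j₁.toRingHom)
      let a₁ := Spec.map (CommRingCat.ofHom (algebraMap k E₁))
      let m : pullback f a ⟶ pullback f a₁ :=
        pullback.lift (pullback.fst f a) (pullback.snd f a ≫ b₁) (by rw [pullback.condition, Category.assoc, hb j₁])
      have sq : IsPullback m (pullback.snd f a) (pullback.snd f a₁) b₁ := by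
        refine IsPullback.of_right ?_ (pullback.lift_snd _ _ _) (IsPullback.of_hasPullback f a₁)
        rw [pullback.lift_fst, hb j₁]
        exact IsPullback.of_hasPullback f a
      let r : pullback (U.ι ≫ I.subschemeι ≫ f) a₁ ⟶ pullback f a₁ :=
        pullback.map _ _ _ _ (U.ι ≫ I.subschemeι) (𝟙 _) (𝟙 _) (by simp) (by simp)
      have sqr : IsPullback (pullback.fst (U.ι ≫ I.subschemeι ≫ f) a₁) r (U.ι ≫ I.subschemeι) (pullback.fst f a₁) := by
        refine IsPullback.of_bot ?_ (pullback.lift_fst _ _ _).symm (IsPullback.of_hasPullback f a₁)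
        rw [pullback.lift_snd, Category.comp_id, Category.assoc]
        exact IsPullback.of_hasPullback _ a₁
      haveI : IsImmersion r := MorphismProperty.of_isPullback (P := @IsImmersion) sqr inferInstance
      let e : Z ⟶ pullback f a₁ := i ≫ r
      haveI : IsImmersion e := inferInstance
      have hre : Set.range e = pullback.fst f a₁ ⁻¹' (C : Set X) \ pullback.fst f a₁ ⁻¹' (D : Set X) := by
        have h1 : Set.range e = Set.range r := by
          rw [Scheme.Hom.comp_base, TopCat.coe_comp, Set.range_comp, Set.range_eq_univ.2 hsurj, Set.image_univ]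
        have h2 : r = sqr.isoPullback.hom ≫ pullback.snd _ _ := sqr.isoPullback_hom_snd.symm
        rw [h1, ← Set.preimage_sdiff, h2, Scheme.Hom.comp_base, TopCat.coe_comp, Set.range_comp,
          Set.range_eq_univ.2 sqr.isoPullback.hom.surjective, Set.image_univ, Scheme.Pullback.range_snd,
          Scheme.Hom.comp_base, TopCat.coe_comp, Set.range_comp, Scheme.Opens.range_ι]
        congr 1
        ext x
        constructor
        · rintro ⟨u, hu, rfl⟩
          exact ⟨hrC.le ⟨u, rfl⟩, fun ⟨w, hw, hwu⟩ => hw (I.subschemeι.isEmbedding.injective hwu ▸ hu)⟩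
        · rintro ⟨hx, hx'⟩
          obtain ⟨u, rfl⟩ := hrC.ge hx
          exact ⟨u, not_not.1 fun hu => hx' ⟨u, hu, rfl⟩, rfl⟩
      haveI : Smooth (e ≫ pullback.snd f a₁) := by
        rw [show e ≫ pullback.snd f a₁ = i ≫ pullback.snd (U.ι ≫ I.subschemeι ≫ f) a₁ by
          rw [Category.assoc, pullback.lift_snd, Category.comp_id]]
        exact hsm
      let T : Closeds (pullback f a₁ : Scheme.{u}) := C.preimage (pullback.fst f a₁).continuous
      let T' : Closeds (pullback f a₁ : Scheme.{u}) := D.preimage (pullback.fst f a₁).continuous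
      haveI : Smooth (vsι T T' ≫ pullback.snd f a₁) := smooth_vsι _ e hre
      let S := Scheme.IdealSheafData.vanishingIdeal T
      let S' := Scheme.IdealSheafData.vanishingIdeal T'
      haveI := smooth_sι_comap sq S S'
      haveI := GrpSchLib.isReduced_of_smooth_field (sι (S.comap m) (S'.comap m) ≫ pullback.snd f a)
      refine smooth_vsι (pullback.snd f a) (sι (S.comap m) (S'.comap m)) ?_
      rw [range_sι, Scheme.IdealSheafData.support_comap, Scheme.IdealSheafData.support_comap]
      show m ⁻¹' (S.support : Set _) \ m ⁻¹' (S'.support : Set _) = _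
      rw [Scheme.IdealSheafData.coe_support_vanishingIdeal, Scheme.IdealSheafData.coe_support_vanishingIdeal]
      have hm : ∀ s : Set X, m ⁻¹' (pullback.fst f a₁ ⁻¹' s) = pullback.fst f a ⁻¹' s := fun s => by
        rw [← Set.preimage_comp, ← TopCat.coe_comp, ← Scheme.Hom.comp_base, pullback.lift_fst]
      exact congrArg₂ (· \ ·) (hm C) (hm D)
    · let b₂ := Spec.map (CommRingCat.ofHom j₂.toRingHom)
      let a₂ := Spec.map (CommRingCat.ofHom (algebraMap k E₂))
      let m : pullback f a ⟶ pullback f a₂ :=
        pullback.lift (pullback.fst f a) (pullback.snd f a ≫ b₂) (by rw [pullback.condition, Category.assoc, hb j₂])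
      have sq : IsPullback m (pullback.snd f a) (pullback.snd f a₂) b₂ := by
        refine IsPullback.of_right ?_ (pullback.lift_snd _ _ _) (IsPullback.of_hasPullback f a₂)
        rw [pullback.lift_fst, hb j₂]
        exact IsPullback.of_hasPullback f a
      convert hch.preimage sq using 1
      refine Closeds.ext ?_
      show pullback.fst f a ⁻¹' (D : Set X) = m ⁻¹' (pullback.fst f a₂ ⁻¹' (D : Set X))
      rw [← Set.preimage_comp, ← TopCat.coe_comp, ← Scheme.Hom.comp_base, pullback.lift_fst]

/-- Every scheme of finite type over a field has a smooth filtration after a finite purely inseparable extension. -/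
theorem exists_chain [LocallyOfFiniteType f] [QuasiCompact f] :
    ∃ (E : Type u) (_ : Field E) (_ : Algebra k E) (_ : Module.Finite k E) (_ : IsPurelyInseparable k E),
      Chain (pullback.snd f (Spec.map (CommRingCat.ofHom (algebraMap k E)))) ⊤ := by
  obtain ⟨E, h1, h2, h3, h4, h⟩ := exists_chain_closed k f ⊤
  refine ⟨E, h1, h2, h3, h4, ?_⟩
  convert h using 1
  exact Closeds.ext (Set.preimage_univ (f := pullback.fst f (Spec.map (CommRingCat.ofHom (algebraMap k E))))).symm

end Groth.Agent.SmStrat
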