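import Groth.Agent.SmStrat.Generic
import Mathlib

/-!
# Smooth stratifications over a noetherian base
-/

universe u

attribute [-instance] CategoryTheory.catToReflQuiver
set_option autoImplicit false
set_option linter.style.haveILetI false
set_option backward.isDefEq.respectTransparency false
set_option backward.isDefEq.respectTransparency.types false

open CategoryTheory CategoryTheory.Limits AlgebraicGeometry TopologicalSpace

noncomputable section

namespace Groth.Agent.SmStrat

variable {X S : Scheme.{u}}

/-- The part of `X` over `e` has a smooth filtration after a finite locally free cover of the base. -/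
def GoodOver (f : X ⟶ S) {P : Scheme.{u}} (e : P ⟶ S) : Prop :=
  ∃ (T : Scheme.{u}) (v : T ⟶ P), Surjective v ∧ Mor2.IsFinLocFree v ∧
    ∃ (t : ℕ) (J : Fin (t + 1) → (pullback f (v ≫ e)).IdealSheafData), Good (pullback.snd f (v ≫ e)) t J

/-- The condition transports along pullback squares of the base. -/
theorem GoodOver.of_sq {X' S' P P' : Scheme.{u}} {f : X ⟶ S} {f' : X' ⟶ S'} {π : S' ⟶ S} {m : X' ⟶ X}
    (hf : IsPullback m f' f π) {e : P ⟶ S} {e' : P' ⟶ S'} {q : P' ⟶ P} (hw : q ≫ e = e' ≫ π)
    (h : GoodOver f e) : GoodOver f' e' := by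
  obtain ⟨T, v, hs, ⟨h1, h2, h3⟩, t, J, hJ⟩ := h
  haveI : IsFinite (pullback.fst q v) := MorphismProperty.pullback_fst _ _ h1
  haveI : Flat (pullback.fst q v) := MorphismProperty.pullback_fst _ _ h2
  haveI : LocallyOfFinitePresentation (pullback.fst q v) := MorphismProperty.pullback_fst _ _ h3
  refine ⟨pullback q v, pullback.fst q v, MorphismProperty.pullback_fst _ _ hs,
    ⟨inferInstance, inferInstance, inferInstance⟩, t, ?_⟩
  have h0 : IsPullback (pullback.fst f' (pullback.fst q v ≫ e') ≫ m) (pullback.snd f' (pullback.fst q v ≫ e'))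
      f ((pullback.fst q v ≫ e') ≫ π) := (IsPullback.of_hasPullback _ _).paste_horiz hf
  have he : (pullback.fst q v ≫ e') ≫ π = pullback.snd q v ≫ v ≫ e := by
    rw [Category.assoc, ← hw, ← pullback.condition_assoc]
  rw [he] at h0
  let b := pullback.snd q v
  let k := pullback.lift (f := f) (g := v ≫ e) (pullback.fst f' (pullback.fst q v ≫ e') ≫ m)
    (pullback.snd f' (pullback.fst q v ≫ e') ≫ b) (h0.w.trans (Category.assoc _ _ _).symm)
  have sq : IsPullback k (pullback.snd f' (pullback.fst q v ≫ e')) (pullback.snd f (v ≫ e)) b := by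
    refine IsPullback.of_right ?_ (pullback.lift_snd _ _ _) (IsPullback.of_hasPullback f (v ≫ e))
    rw [pullback.lift_fst]
    exact h0
  exact ⟨_, hJ.comap sq⟩

/-- A closed subset filtered by strata over which the family has smooth filtrations. -/
inductive BChain (f : X ⟶ S) : Closeds S → Prop
  | empty : BChain f ⊥
  | step {C D : Closeds S} : D ≤ C → GoodOver f (vsι C D) → BChain f D → BChain f C

theorem BChain.exists_fin {f : X ⟶ S} {C : Closeds S} (h : BChain f C) :
    ∃ (t : ℕ) (T : Fin (t + 1) → Closeds S), Antitone T ∧ T 0 = C ∧ T (Fin.last t) = ⊥ ∧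
      ∀ i : Fin t, GoodOver f (vsι (T i.castSucc) (T i.succ)) := by
  induction h with
  | empty => exact ⟨0, fun _ => ⊥, antitone_const, rfl, rfl, fun i => i.elim0⟩
  | @step C D hDC hs _ ih =>
    obtain ⟨t, T, hT, h0, hl, hsm⟩ := ih
    refine ⟨t + 1, Fin.cons C T, ?_, rfl, by rw [← Fin.succ_last, Fin.cons_succ, hl], fun i => ?_⟩
    · refine Fin.antitone_iff_succ_le.2 fun i => ?_
      induction i using Fin.cases with
      | zero =>
        simp only [Fin.castSucc_zero, Fin.cons_zero, Fin.cons_succ, h0]
        exact hDC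
      | succ i =>
        rw [← Fin.succ_castSucc, Fin.cons_succ, Fin.cons_succ]
        exact hT (Fin.castSucc_le_succ i)
    · induction i using Fin.cases with
      | zero =>
        rw [Fin.castSucc_zero, Fin.cons_zero, Fin.cons_succ, h0]
        exact hs
      | succ i =>
        rw [← Fin.succ_castSucc, Fin.cons_succ, Fin.cons_succ]
        exact hsm i

variable [IsNoetherian S] (f : X ⟶ S) [LocallyOfFinitePresentation f] [QuasiCompact f] [QuasiSeparated f]

theorem exists_bchain (C : Closeds S) : BChain f C := by
  induction C using WellFoundedLT.induction with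
  | ind C ih =>
    rcases eq_or_ne C ⊥ with rfl | hC
    · exact .empty
    let I := Scheme.IdealSheafData.vanishingIdeal C
    haveI : IsReduced I.subscheme := H23.RedSub.isReduced_vanishingIdeal C
    have hrC : Set.range I.subschemeι = (C : Set S) := by
      rw [Scheme.IdealSheafData.range_subschemeι, Scheme.IdealSheafData.coe_support_vanishingIdeal]
    obtain ⟨c, hc⟩ := Set.nonempty_iff_ne_empty.2 (fun he : (C : Set S) = ∅ => hC (Closeds.ext he))
    obtain ⟨z, -⟩ := hrC.ge hc
    let W := irreducibleComponent z
    have hW : W ∈ irreducibleComponents I.subscheme := irreducibleComponent_mem_irreducibleComponents z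
    obtain ⟨η, hη⟩ := QuasiSober.sober isIrreducible_irreducibleComponent (isClosed_irreducibleComponent (x := z))
    have hgen : ∀ y : I.subscheme, y ⤳ η → y = η := fun y hy => by
      have h1 : W ⊆ closure {y} := fun w hw =>
        specializes_iff_mem_closure.1 (hy.trans (hη.specializes hw))
      have h2 : closure {y} = W := (hW.2 isIrreducible_singleton.closure h1).antisymm h1
      exact (isGenericPoint_def.2 h2 : IsGenericPoint y W).eq hη
    obtain ⟨U, V, v, hU, h1, -, h3, t, J, hJ⟩ := exists_good_near_generic (pullback.snd f I.subschemeι) η hgen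
    let D : Closeds S := ⟨I.subschemeι '' (U : Set I.subscheme)ᶜ,
      I.subschemeι.isClosedEmbedding.isClosedMap _ U.2.isClosed_compl⟩
    have hDC : D ≤ C := fun x hx => hrC.le (Set.image_subset_range _ _ hx)
    have hlt : D < C := by
      refine lt_of_le_of_ne hDC fun h => ?_
      obtain ⟨w', hw', hww⟩ := h.ge (hrC.le ⟨η, rfl⟩)
      exact hw' (I.subschemeι.isEmbedding.injective hww ▸ hU)
    have hopen : I.subschemeι ⁻¹ᵁ (Scheme.IdealSheafData.vanishingIdeal D).support.compl = U := by
      ext y
      show I.subschemeι y ∉ ((Scheme.IdealSheafData.vanishingIdeal D).support : Set S) ↔ y ∈ U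
      rw [Scheme.IdealSheafData.coe_support_vanishingIdeal]
      refine ⟨fun h => not_not.1 fun hy => h ⟨y, hy, rfl⟩, fun hy ⟨y', hy', he⟩ => ?_⟩
      exact hy' (I.subschemeι.isEmbedding.injective he ▸ hy)
    refine .step hDC ?_ (ih D hlt)
    refine GoodOver.of_sq (f := f) (IsPullback.id_horiz f) (e := U.ι ≫ I.subschemeι) (q := (Scheme.isoOfEq _ hopen).hom)
      (by rw [Category.comp_id, ← Category.assoc, Scheme.isoOfEq_hom_ι]) ?_
    refine ⟨V, v, h1, h3, t, ?_⟩
    let m : pullback f (v ≫ U.ι ≫ I.subschemeι) ⟶ pullback (pullback.snd f I.subschemeι) (v ≫ U.ι) :=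
      pullback.lift (pullback.lift (pullback.fst _ _) (pullback.snd _ _ ≫ v ≫ U.ι)
        (by rw [pullback.condition]; simp only [Category.assoc])) (pullback.snd _ _) (pullback.lift_snd _ _ _)
    have sq : IsPullback m (pullback.snd f (v ≫ U.ι ≫ I.subschemeι)) (pullback.snd (pullback.snd f I.subschemeι) (v ≫ U.ι))
        (𝟙 V) := by
      refine IsPullback.of_right ?_ (by rw [Category.comp_id]; exact pullback.lift_snd _ _ _)
        ((IsPullback.of_hasPullback _ _).paste_horiz (IsPullback.of_hasPullback f I.subschemeι))
      rw [← Category.assoc m, pullback.lift_fst, pullback.lift_fst, Category.id_comp, Category.assoc]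
      exact IsPullback.of_hasPullback _ _
    exact ⟨_, hJ.comap sq⟩

end Groth.Agent.SmStrat
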