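import Groth.Agent.GrpSchLib.SmoothReduced
import Groth.Agent.H23.RedSub
import Groth.Agent.MorLib.IdealFG2
import Mathlib

/-!
# Smooth strata of a closed filtration
-/

universe u

set_option autoImplicit false
set_option linter.style.haveILetI false

open CategoryTheory CategoryTheory.Limits AlgebraicGeometry TopologicalSpace

noncomputable section

namespace Groth.Agent.SmStrat

variable {Y Y' B B' Z : Scheme.{u}}

/-- The open part of the closed subscheme of `J` off the support of `J'`, inside `Y`. -/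
abbrev sι (J J' : Y.IdealSheafData) :
    ((J.subschemeι ⁻¹ᵁ J'.support.compl : J.subscheme.Opens) : Scheme.{u}) ⟶ Y :=
  (J.subschemeι ⁻¹ᵁ J'.support.compl).ι ≫ J.subschemeι

theorem range_sι (J J' : Y.IdealSheafData) : Set.range (sι J J') = (J.support : Set Y) \ J'.support := by
  rw [Scheme.Hom.comp_base, TopCat.coe_comp, Set.range_comp, Scheme.Opens.range_ι]
  ext y
  constructor
  · rintro ⟨z, hz, rfl⟩
    exact ⟨(Scheme.IdealSheafData.range_subschemeι J).le ⟨z, rfl⟩, hz⟩
  · rintro ⟨hy, hy'⟩
    obtain ⟨z, rfl⟩ := (Scheme.IdealSheafData.range_subschemeι J).ge hy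
    exact ⟨z, hy', rfl⟩

instance (J J' : Y.IdealSheafData) : IsImmersion (sι J J') := inferInstance

/-- The reduced stratum `C ∖ D`. -/
abbrev vsι (C D : Closeds Y) := sι (Scheme.IdealSheafData.vanishingIdeal C) (Scheme.IdealSheafData.vanishingIdeal D)

theorem range_vsι (C D : Closeds Y) : Set.range (vsι C D) = (C : Set Y) \ D := by
  rw [range_sι, Scheme.IdealSheafData.coe_support_vanishingIdeal, Scheme.IdealSheafData.coe_support_vanishingIdeal]

/-- A reduced scheme immersed with image a stratum is the reduced stratum. -/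
theorem exists_iso_stratum {C D : Closeds Y} (e : Z ⟶ Y) [IsImmersion e] [IsReduced Z]
    (h : Set.range e = (C : Set Y) \ D) :
    ∃ φ : Z ⟶ ((Scheme.IdealSheafData.vanishingIdeal C).subschemeι ⁻¹ᵁ
        (Scheme.IdealSheafData.vanishingIdeal D).support.compl :
          (Scheme.IdealSheafData.vanishingIdeal C).subscheme.Opens).toScheme,
      IsIso φ ∧ φ ≫ vsι C D = e := by
  let I := Scheme.IdealSheafData.vanishingIdeal C
  let W : I.subscheme.Opens := I.subschemeι ⁻¹ᵁ (Scheme.IdealSheafData.vanishingIdeal D).support.compl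
  haveI : Surjective (pullback.fst e (vsι C D)) :=
    ⟨fun z => by
      have : z ∈ Set.range (pullback.fst e (vsι C D)) := by
        rw [Scheme.Pullback.range_fst, Set.mem_preimage, range_vsι, ← h]
        exact ⟨z, rfl⟩
      exact this⟩
  haveI : IsClosedImmersion (pullback.fst e (vsι C D)) :=
    IsClosedImmersion.of_isPreimmersion _ (by
      rw [Set.range_eq_univ.2 (Surjective.surj (f := pullback.fst e (vsι C D)))]
      exact isClosed_univ)
  haveI := isIso_of_isClosedImmersion_of_surjective (pullback.fst e (vsι C D))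
  let φ : Z ⟶ W.toScheme := inv (pullback.fst e (vsι C D)) ≫ pullback.snd e (vsι C D)
  have hφ : φ ≫ vsι C D = e := by
    rw [Category.assoc, ← pullback.condition, IsIso.inv_hom_id_assoc]
  haveI : IsImmersion (φ ≫ vsι C D) := hφ.symm ▸ ‹IsImmersion e›
  haveI : IsImmersion φ := IsImmersion.of_comp φ (vsι C D)
  haveI : Surjective φ := ⟨fun w => by
    obtain ⟨z, hz⟩ := h.ge ((range_vsι C D).le ⟨w, rfl⟩)
    refine ⟨z, (vsι C D).isEmbedding.injective ?_⟩
    rw [← Scheme.Hom.comp_apply, hφ, hz]⟩
  haveI : IsClosedImmersion φ := IsClosedImmersion.of_isPreimmersion _ (by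
    rw [Set.range_eq_univ.2 (Surjective.surj (f := φ))]
    exact isClosed_univ)
  haveI : IsReduced I.subscheme := H23.RedSub.isReduced_vanishingIdeal C
  haveI : IsReduced W.toScheme := isReduced_of_isOpenImmersion W.ι
  exact ⟨φ, isIso_of_isClosedImmersion_of_surjective φ, hφ⟩

theorem smooth_vsι {C D : Closeds Y} (g : Y ⟶ B) (e : Z ⟶ Y) [IsImmersion e] [IsReduced Z]
    (h : Set.range e = (C : Set Y) \ D) [Smooth (e ≫ g)] : Smooth (vsι C D ≫ g) := by
  obtain ⟨φ, hφ, he⟩ := exists_iso_stratum e h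
  have : vsι C D ≫ g = inv φ ≫ e ≫ g := by
    rw [← Category.assoc (inv φ), show inv φ ≫ e = vsι C D by rw [← he, IsIso.inv_hom_id_assoc]]
  rw [this]
  infer_instance

/-- Base change of a stratum. -/
theorem isPullback_sι (m : Y' ⟶ Y) (J J' : Y.IdealSheafData) :
    ∃ q, IsPullback q (sι (J.comap m) (J'.comap m)) (sι J J') m := by
  let φ : (J.comap m).subscheme ⟶ J.subscheme := (J.comapIso m).hom ≫ pullback.snd _ _
  have h1 : IsPullback φ (J.comap m).subschemeι J.subschemeι m :=
    (IsPullback.of_hasPullback m J.subschemeι).flip.of_iso (J.comapIso m).symm (Iso.refl _) (Iso.refl _)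
      (Iso.refl _) (by simp only [φ, Iso.symm_hom, Iso.inv_hom_id_assoc, Iso.refl_hom, Category.comp_id]) (by simp) (by simp) (by simp)
  let W : J.subscheme.Opens := J.subschemeι ⁻¹ᵁ J'.support.compl
  let W' : (J.comap m).subscheme.Opens := (J.comap m).subschemeι ⁻¹ᵁ (J'.comap m).support.compl
  have hW : φ ⁻¹ᵁ W = W' := by
    ext z
    have hz : J.subschemeι (φ z) = m ((J.comap m).subschemeι z) := by
      rw [← Scheme.Hom.comp_apply, h1.w, Scheme.Hom.comp_apply]
    show J.subschemeι (φ z) ∉ J'.support ↔ (J.comap m).subschemeι z ∉ (J'.comap m).support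
    rw [hz, Scheme.IdealSheafData.support_comap]
    rfl
  have h2 := (isPullback_morphismRestrict φ W).paste_vert h1
  refine ⟨(Scheme.isoOfEq _ hW).inv ≫ φ ∣_ W, h2.of_iso (Scheme.isoOfEq _ hW) (Iso.refl _) (Iso.refl _)
    (Iso.refl _) (by simp) ?_ (by simp [sι, W]) (by simp)⟩
  simp [sι, W']

/-- Strata stay smooth under base change. -/
theorem smooth_sι_comap {m : Y' ⟶ Y} {g : Y ⟶ B} {g' : Y' ⟶ B'} {b : B' ⟶ B} (sq : IsPullback m g' g b)
    (J J' : Y.IdealSheafData) [Smooth (sι J J' ≫ g)] : Smooth (sι (J.comap m) (J'.comap m) ≫ g') := by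
  obtain ⟨q, hq⟩ := isPullback_sι m J J'
  exact MorphismProperty.of_isPullback (P := @Smooth) (hq.paste_vert sq) ‹_›

/-- The filtration has strata smooth over the base. -/
structure Good (g : Y ⟶ B) (t : ℕ) (J : Fin (t + 1) → Y.IdealSheafData) : Prop where
  mono : Monotone J
  last : J (Fin.last t) = ⊤
  zero : ((J 0).support : Set Y) = Set.univ
  fg : ∀ i, MorLib.IdealFG.IsFG (J i)
  smooth : ∀ i : Fin t, Smooth (sι (J i.castSucc) (J i.succ) ≫ g)

theorem Good.comap {m : Y' ⟶ Y} {g : Y ⟶ B} {g' : Y' ⟶ B'} {b : B' ⟶ B} (sq : IsPullback m g' g b)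
    {t : ℕ} {J : Fin (t + 1) → Y.IdealSheafData} (h : Good g t J) :
    Good g' t fun i => (J i).comap m where
  mono i j hij := Scheme.IdealSheafData.comap_mono m (h.mono hij)
  last := by rw [h.last, Scheme.IdealSheafData.comap_top]
  zero := by
    rw [Scheme.IdealSheafData.support_comap]
    show m ⁻¹' ((J 0).support : Set Y) = Set.univ
    rw [h.zero, Set.preimage_univ]
  fg i := MorLib.IdealFG.isFG_comap (h.fg i) m
  smooth i := by
    haveI := h.smooth i
    exact smooth_sι_comap sq _ _

end Groth.Agent.SmStrat
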