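import Groth.Agent.MorLib.RingUnivHomeo
import Mathlib

/-!
# A finite radicial model of a finite purely inseparable extension of a fraction field
-/

universe u

set_option autoImplicit false
set_option linter.style.haveILetI false

noncomputable section

namespace Groth.Agent.SmStrat

variable (R : Type u) [CommRing R] [IsDomain R] [IsNoetherianRing R] (K : Type u) [Field K] [Algebra R K]
  [IsFractionRing R K] (E : Type u) [Field E] [Algebra K E] [Algebra R E] [IsScalarTower R K E]
  [Module.Finite K E] [IsPurelyInseparable K E]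

include K in
/-- A model of the extension: finite, with denominators in `R`, radicial. -/
theorem exists_model :
    ∃ (S : Subalgebra R E) (q : ℕ), Module.Finite R S ∧
      (∀ x : E, ∃ c : R, c ≠ 0 ∧ algebraMap R E c * x ∈ S) ∧
      (∀ s : S, ∃ a : R, algebraMap R S a = s ^ q) ∧
      ∀ (L : Type u) [Field L], (R →+* L) → ∀ a b : L, a ^ q = b ^ q → a = b := by
  classical
  let p := ringExpChar K
  haveI : ExpChar K p := ringExpChar.expChar K
  obtain ⟨fs, hfs⟩ := (inferInstance : Module.Finite K E).fg_top
  choose n y hy using fun x : E => IsPurelyInseparable.pow_mem K p x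
  let N := fs.sup n
  let q := p ^ N
  have hpow : ∀ x ∈ fs, ∃ z : K, algebraMap K E z = x ^ q := fun x hx => ⟨y x ^ p ^ (N - n x), by
    rw [map_pow, hy, ← pow_mul, ← pow_add, Nat.add_sub_cancel' (Finset.le_sup hx)]⟩
  choose z hz using hpow
  choose a d hd using fun x : fs => IsFractionRing.div_surjective (A := R) (z x.1 x.2)
  have hd0 : ∀ x : fs, (d x : R) ≠ 0 := fun x => nonZeroDivisors.ne_zero (hd x).1
  let g : fs → E := fun x => algebraMap R E (d x) * x.1
  have hg : ∀ x, algebraMap R E (d x ^ (q - 1) * a x) = g x ^ q := fun x => by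
    have hq : q = (q - 1) + 1 := (Nat.succ_pred_eq_of_pos (expChar_pow_pos K p N)).symm
    have h1 : algebraMap R K (d x) ≠ 0 := (map_ne_zero_iff _ (IsFractionRing.injective R K)).2 (hd0 x)
    rw [mul_pow, ← hz x.1 x.2, ← (hd x).2, IsScalarTower.algebraMap_apply R K E,
      IsScalarTower.algebraMap_apply R K E (d x), ← map_pow, ← map_mul, map_mul, map_pow]
    congr 1
    conv_rhs => rw [hq, pow_succ]
    field_simp
  let S : Subalgebra R E := Algebra.adjoin R (Set.range g)
  haveI : ExpChar R p := RingHom.expChar (algebraMap R K) (IsFractionRing.injective R K) p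
  haveI : ExpChar E p := expChar_of_injective_algebraMap (algebraMap K E).injective p
  have hS : ∀ s ∈ S, ∃ b : R, algebraMap R E b = s ^ q := by
    intro s hs
    induction hs using Algebra.adjoin_induction with
    | mem s hs => obtain ⟨x, rfl⟩ := hs; exact ⟨_, hg x⟩
    | algebraMap r => exact ⟨r ^ q, map_pow _ _ _⟩
    | add x y _ _ hx hy =>
      obtain ⟨b, hb⟩ := hx
      obtain ⟨c, hc⟩ := hy
      exact ⟨b + c, by rw [map_add, hb, hc]; exact (add_pow_expChar_pow x y p N).symm⟩
    | mul x y _ _ hx hy =>
      obtain ⟨b, hb⟩ := hx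
      obtain ⟨c, hc⟩ := hy
      exact ⟨b * c, by rw [map_mul, hb, hc, mul_pow]⟩
  have hqpos : 0 < q := expChar_pow_pos K p N
  refine ⟨S, q, ?_, ?_, fun s => ?_, fun L _ φ u v huv => ?_⟩
  · have hint : ∀ x ∈ Set.range g, IsIntegral R x := by
      rintro _ ⟨x, rfl⟩
      exact IsIntegral.of_pow hqpos (hg x ▸ isIntegral_algebraMap)
    exact Module.Finite.iff_fg.2 (fg_adjoin_of_finite (Set.finite_range g) hint)
  · intro x
    have hx : x ∈ Submodule.span K (fs : Set E) := by rw [hfs]; exact Submodule.mem_top
    induction hx using Submodule.span_induction with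
    | mem x hx => exact ⟨d ⟨x, hx⟩, hd0 _, Algebra.subset_adjoin ⟨⟨x, hx⟩, rfl⟩⟩
    | zero => exact ⟨1, one_ne_zero, by rw [mul_zero]; exact zero_mem _⟩
    | add x y _ _ hx hy =>
      obtain ⟨b, hb, hbx⟩ := hx
      obtain ⟨c, hc, hcy⟩ := hy
      refine ⟨b * c, mul_ne_zero hb hc, ?_⟩
      rw [map_mul, mul_add]
      refine add_mem ?_ ?_
      · rw [show algebraMap R E b * algebraMap R E c * x = algebraMap R E c * (algebraMap R E b * x) by ring]
        exact mul_mem (S.algebraMap_mem c) hbx
      · rw [mul_assoc]
        exact mul_mem (S.algebraMap_mem b) hcy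
    | smul r x _ hx =>
      obtain ⟨c, hc, hcx⟩ := hx
      obtain ⟨u, v, hv, rfl⟩ := IsFractionRing.div_surjective (A := R) r
      refine ⟨v * c, mul_ne_zero (nonZeroDivisors.ne_zero hv) hc, ?_⟩
      have hv' : algebraMap R K v ≠ 0 :=
        (map_ne_zero_iff _ (IsFractionRing.injective R K)).2 (nonZeroDivisors.ne_zero hv)
      have e : algebraMap R E (v * c) * ((algebraMap R K u / algebraMap R K v) • x) =
          algebraMap R E u * (algebraMap R E c * x) := by
        rw [Algebra.smul_def, map_mul, IsScalarTower.algebraMap_apply R K E v,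
          IsScalarTower.algebraMap_apply R K E u, map_div₀]
        have hv'' : algebraMap K E (algebraMap R K v) ≠ 0 := (map_ne_zero _).2 hv'
        field_simp
      rw [e]
      exact mul_mem (S.algebraMap_mem u) hcx
  · obtain ⟨b, hb⟩ := hS s.1 s.2
    exact ⟨b, Subtype.ext hb⟩
  · rcases expChar_is_prime_or_one R p with hp | hp
    swap
    · simpa [q, hp] using huv
    · haveI : Fact p.Prime := ⟨hp⟩
      obtain ⟨c, hc⟩ := CharP.exists R
      haveI : CharP R p := by
        have : c = p := (char_eq_expChar_iff R c p).2 (by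
          rcases CharP.char_is_prime_or_zero R c with h | rfl
          · exact h
          · exact absurd ((expChar_one_iff_char_zero R 0 p).2 rfl) hp.ne_one)
        exact this ▸ hc
      have hpR : (p : R) = 0 := CharP.cast_eq_zero R p
      haveI : CharP L p := (CharP.charP_iff_prime_eq_zero hp).2 (by rw [← map_natCast φ, hpR, map_zero])
      haveI : ExpChar L p := ExpChar.prime hp
      exact iterateFrobenius_inj L p N (by rw [iterateFrobenius_def, iterateFrobenius_def]; exact huv)

omit [IsNoetherianRing R] in
/-- Localisations of radicial maps of this kind are radicial. -/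
theorem radicial_of_pow (q : ℕ) (hL : ∀ (L : Type u) [Field L], (R →+* L) → ∀ a b : L, a ^ q = b ^ q → a = b)
    {A B : Type u} [CommRing A] [CommRing B] [Algebra R A] (φ : A →+* B)
    (h : ∀ b : B, ∃ a : A, φ a = b ^ q) : MorLib.RUH.Radicial φ := by
  intro L _ f g hfg
  refine RingHom.ext fun b => hL L ((f.comp φ).comp (algebraMap R A)) _ _ ?_
  obtain ⟨a, ha⟩ := h b
  rw [← map_pow, ← map_pow, ← ha]
  exact congr($hfg a)

end Groth.Agent.SmStrat
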