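import Groth.Prelude.Def_Mor2
import Groth.Agent.SmStrat.Field
import Groth.Agent.SmStrat.Ring
import Groth.Agent.H9Smoothing.Family
import Groth.Agent.GeomRedFlat5.Nhd
import Groth.Agent.GenFreeRed.Main
import Groth.Agent.FlatMisc.SpreadRed
import Mathlib

/-!
# Smooth filtrations near the generic point of an integral noetherian affine base
-/

universe u

attribute [-instance] CategoryTheory.catToReflQuiver
set_option autoImplicit false
set_option linter.style.haveILetI false
set_option backward.isDefEq.respectTransparency false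
set_option backward.isDefEq.respectTransparency.types false

open CategoryTheory CategoryTheory.Limits AlgebraicGeometry TopologicalSpace
open Groth.Agent.ConsPropLib
open scoped TensorProduct

noncomputable section

namespace Groth.Agent.SmStrat

/-- A flat preimmersion into a reduced scheme has reduced source. -/
theorem isReduced_of_flat_preimmersion {Z W : Scheme.{u}} (q : Z ⟶ W) [Flat q] [IsPreimmersion q]
    [IsReduced W] : IsReduced Z := by
  haveI : ∀ z, _root_.IsReduced (Z.presheaf.stalk z) := fun z => by
    letI := (q.stalkMap z).hom.toAlgebra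
    haveI : Module.FaithfullyFlat (W.presheaf.stalk (q.base z)) (Z.presheaf.stalk z) :=
      @Module.FaithfullyFlat.of_flat_of_isLocalHom _ _ _ _ _ _ _ (Flat.stalkMap q z) (q.toLRSHom.prop z)
    let e : W.presheaf.stalk (q.base z) ≃+* Z.presheaf.stalk z :=
      RingEquiv.ofBijective (q.stalkMap z).hom
        ⟨FaithfulSMul.algebraMap_injective (W.presheaf.stalk (q.base z)) (Z.presheaf.stalk z), q.stalkMap_surjective z⟩
    exact isReduced_of_injective e.symm.toRingHom e.symm.injective
  exact isReduced_of_isReduced_stalk Z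

variable {R : CommRingCat.{u}} [IsDomain R] [IsNoetherianRing R] {X : Scheme.{u}} (f : X ⟶ Spec R)
  [LocallyOfFiniteType f] [QuasiCompact f]

/-- Smooth filtrations exist over a neighbourhood of the generic point, after a radicial finite free cover. -/
theorem exists_good_near :
    ∃ (O : (Spec R).Opens) (V : Scheme.{u}) (v : V ⟶ (O : Scheme.{u})),
      (⟨⊥, Ideal.isPrime_bot⟩ : PrimeSpectrum R) ∈ O ∧ Surjective v ∧ UniversallyInjective v ∧
      Mor2.IsFinLocFree v ∧
      ∃ (t : ℕ) (J : Fin (t + 1) → (pullback f (v ≫ O.ι)).IdealSheafData),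
        Good (pullback.snd f (v ≫ O.ι)) t J := by
  classical
  let K := FractionRing R
  let aK := Spec.map (CommRingCat.ofHom (algebraMap R K))
  obtain ⟨E, _, _, _, _, hch⟩ := exists_chain K (pullback.snd f aK)
  letI : Algebra R E := ((algebraMap K E).comp (algebraMap R K)).toAlgebra
  haveI : IsScalarTower R K E := IsScalarTower.of_algebraMap_eq fun _ => rfl
  obtain ⟨S, q, hfin, hden, hpow, hrad⟩ := exists_model R K E
  haveI := hfin
  haveI : IsNoetherianRing S := Algebra.FiniteType.isNoetherianRing R S
  have hinjE : Function.Injective (algebraMap R E) :=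
    (algebraMap K E).injective.comp (IsFractionRing.injective R K)
  have hRS : Function.Injective (algebraMap R S) := fun x y h => hinjE (congrArg Subtype.val h)
  letI : Algebra S E := S.val.toRingHom.toAlgebra
  haveI : FaithfulSMul S E := (faithfulSMul_iff_algebraMap_injective S E).2 Subtype.val_injective
  haveI : IsFractionRing S E := IsFractionRing.of_field S E fun z => by
    obtain ⟨c, hc, hcz⟩ := hden z
    exact ⟨⟨_, hcz⟩, algebraMap R S c, ((eq_div_iff ((map_ne_zero_iff _ hinjE).2 hc)).2 (mul_comm _ _))⟩
  let ι₀ : R ⟶ CommRingCat.of S := CommRingCat.ofHom (algebraMap R S)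
  let ψ : CommRingCat.of S ⟶ CommRingCat.of E := CommRingCat.ofHom (algebraMap S E)
  haveI : Flat (Spec.map ψ) := HasRingHomProperty.Spec_iff.2
    (RingHom.flat_algebraMap_iff.2 (IsLocalization.flat E (nonZeroDivisors S)))
  haveI : IsPreimmersion (Spec.map ψ) := IsPreimmersion.of_isLocalization (nonZeroDivisors S)
  let f'' := pullback.snd f (Spec.map ι₀)
  let e := pullback.fst f'' (Spec.map ψ)
  let g' := pullback.snd f'' (Spec.map ψ)
  haveI : IsLocallyNoetherian (pullback f (Spec.map ι₀)) := LocallyOfFiniteType.isLocallyNoetherian f''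
  haveI : CompactSpace (pullback f (Spec.map ι₀) :) := QuasiCompact.compactSpace_of_compactSpace f''
  haveI : IsNoetherian (pullback f (Spec.map ι₀)) := {}
  -- the chain over `E`
  let aE := Spec.map (CommRingCat.ofHom (algebraMap K E))
  have h1 : IsPullback (pullback.fst (pullback.snd f aK) aE ≫ pullback.fst f aK)
      (pullback.snd (pullback.snd f aK) aE) f (aE ≫ aK) :=
    (IsPullback.of_hasPullback _ _).paste_horiz (IsPullback.of_hasPullback f aK)
  have h2 : IsPullback (e ≫ pullback.fst f (Spec.map ι₀)) g' f (Spec.map ψ ≫ Spec.map ι₀) :=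
    (IsPullback.of_hasPullback _ _).paste_horiz (IsPullback.of_hasPullback f (Spec.map ι₀))
  have hb : Spec.map ψ ≫ Spec.map ι₀ = aE ≫ aK := by
    rw [← Spec.map_comp, ← Spec.map_comp]
    rfl
  rw [hb] at h2
  let θ := h2.isoIsPullback _ _ h1
  have hch' := hch.preimage (g' := g') (m := θ.hom) (b := 𝟙 _)
    (IsPullback.of_horiz_isIso ⟨(IsPullback.isoIsPullback_hom_snd _ _ h2 h1).trans (Category.comp_id _).symm⟩)
  rw [show (⊤ : Closeds _).preimage θ.hom.continuous = ⊤ from Closeds.ext (Set.preimage_univ (f := θ.hom))] at hch'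
  obtain ⟨t, T, hT, hT0, hTl, hTs⟩ := hch'.exists_fin
  let T' : Fin (t + 2) → Closeds (pullback f'' (Spec.map ψ) :) := Fin.cons ⊤ T
  let C : Fin (t + 2) → Closeds (pullback f (Spec.map ι₀) :) :=
    Fin.cons ⊤ fun i => Closeds.closure (e '' (T i : Set _))
  have hCT : ∀ i, e ⁻¹' (C i : Set _) = (T' i : Set _) := fun i => by
    induction i using Fin.cases with
    | zero => exact Set.preimage_univ
    | succ i =>
      simp only [C, T', Fin.cons_succ]
      exact (e.isEmbedding.closure_eq_preimage_closure_image _).symm.trans (T i).2.closure_eq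
  have hT's : ∀ i : Fin (t + 1), Smooth (vsι (T' i.castSucc) (T' i.succ) ≫ g') := fun i => by
    induction i using Fin.cases with
    | zero =>
      haveI : IsEmpty (((Scheme.IdealSheafData.vanishingIdeal (T' (0 : Fin (t + 1)).castSucc)).subschemeι ⁻¹ᵁ
          (Scheme.IdealSheafData.vanishingIdeal (T' (0 : Fin (t + 1)).succ)).support.compl :
          (Scheme.IdealSheafData.vanishingIdeal (T' (0 : Fin (t + 1)).castSucc)).subscheme.Opens) : Scheme.{u}) :=
        ⟨fun w => by
          have := (range_vsι (T' (0 : Fin (t + 1)).castSucc) (T' (0 : Fin (t + 1)).succ)).le ⟨w, rfl⟩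
          simp only [T', Fin.castSucc_zero, Fin.cons_zero, Fin.cons_succ, hT0] at this
          exact this.2 trivial⟩
      infer_instance
    | succ i =>
      simp only [T', ← Fin.succ_castSucc, Fin.cons_succ]
      exact hTs i
  let J'' : Fin (t + 2) → (pullback f (Spec.map ι₀)).IdealSheafData := fun i =>
    Scheme.IdealSheafData.vanishingIdeal (C i)
  let gs := fun i : Fin (t + 1) => sι (J'' i.castSucc) (J'' i.succ) ≫ f''
  -- the strata are smooth over the field
  have hgen : ∀ i, Smooth (pullback.snd (gs i) (Spec.map ψ)) := fun i => by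
    let s := sι (J'' i.castSucc) (J'' i.succ)
    let l : pullback (gs i) (Spec.map ψ) ⟶ pullback f'' (Spec.map ψ) :=
      pullback.lift (pullback.fst _ _ ≫ s) (pullback.snd _ _) (by rw [Category.assoc]; exact pullback.condition)
    have hsq : IsPullback (pullback.fst (gs i) (Spec.map ψ)) l s e := by
      refine IsPullback.of_bot ?_ (pullback.lift_fst _ _ _).symm (IsPullback.of_hasPullback f'' (Spec.map ψ))
      rw [pullback.lift_snd]
      exact IsPullback.of_hasPullback (gs i) (Spec.map ψ)
    haveI : IsImmersion l := MorphismProperty.of_isPullback (P := @IsImmersion) hsq inferInstance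
    haveI : IsReduced (Scheme.IdealSheafData.vanishingIdeal (C i.castSucc)).subscheme :=
      H23.RedSub.isReduced_vanishingIdeal _
    haveI := isReduced_of_isOpenImmersion ((J'' i.castSucc).subschemeι ⁻¹ᵁ (J'' i.succ).support.compl).ι
    haveI : IsReduced (pullback (gs i) (Spec.map ψ)) := isReduced_of_flat_preimmersion (pullback.fst _ _)
    have hrl : Set.range l = (T' i.castSucc : Set _) \ T' i.succ := by
      rw [← hsq.isoPullback_hom_snd, Scheme.Hom.comp_base, TopCat.coe_comp, Set.range_comp,
        Set.range_eq_univ.2 hsq.isoPullback.hom.surjective, Set.image_univ, Scheme.Pullback.range_snd,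
        range_vsι, Set.preimage_sdiff, hCT, hCT]
    obtain ⟨φ, hφ, hφl⟩ := exists_iso_stratum l hrl
    haveI := hT's i
    rw [show pullback.snd (gs i) (Spec.map ψ) = φ ≫ vsι (T' i.castSucc) (T' i.succ) ≫ g' by
      rw [← Category.assoc, hφl, pullback.lift_snd]]
    infer_instance
  -- finite presentation of the strata
  have hst : ∀ i, ∃ tt : Finset E, Smooth (pullback.snd (gs i) (Spec.map (AlgApprox.str ψ tt))) := fun i => by
    haveI : IsNoetherian ((J'' i.castSucc).subscheme) := by
      haveI := LocallyOfFiniteType.isLocallyNoetherian (J'' i.castSucc).subschemeι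
      haveI := QuasiCompact.compactSpace_of_compactSpace (J'' i.castSucc).subschemeι
      exact {}
    haveI : IsLocallyNoetherian (((J'' i.castSucc).subschemeι ⁻¹ᵁ (J'' i.succ).support.compl).toScheme) :=
      LocallyOfFiniteType.isLocallyNoetherian ((J'' i.castSucc).subschemeι ⁻¹ᵁ (J'' i.succ).support.compl).ι
    haveI : LocallyOfFiniteType (gs i) := inferInstance
    haveI : LocallyOfFinitePresentation (gs i) := GeomRedFlat5.lfp_of_noetherian _
    haveI : CompactSpace (((J'' i.castSucc).subschemeι ⁻¹ᵁ (J'' i.succ).support.compl).toScheme) :=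
      isCompact_iff_compactSpace.1 (NoetherianSpace.isCompact _)
    haveI : IsNoetherian (((J'' i.castSucc).subschemeι ⁻¹ᵁ (J'' i.succ).support.compl).toScheme) := {}
    exact H9Smoothing.exists_smooth_stage ψ (gs i) (hgen i)
  choose tt htt using hst
  -- the localisation
  obtain ⟨c₀, hc₀, hgood⟩ := Groth.Agent.GenFreeRed.exists_isGood R S S 1 one_ne_zero
  rw [one_mul] at hc₀ hgood
  choose den hden0 hdenS using hden
  let c : R := c₀ * ∏ i, ∏ x ∈ tt i, den x
  have hc : c ≠ 0 := mul_ne_zero hc₀ (Finset.prod_ne_zero_iff.2 fun i _ => Finset.prod_ne_zero_iff.2 fun x _ => hden0 x)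
  let Rc := Localization.Away c
  let Sc := Localization.Away (algebraMap R S c)
  have hcS : algebraMap R S c ≠ 0 := (map_ne_zero_iff _ hRS).2 hc
  haveI : IsDomain Rc := IsLocalization.isDomain_localization (powers_le_nonZeroDivisors_of_noZeroDivisors hc)
  haveI : IsNoetherianRing Rc := IsLocalization.isNoetherianRing (Submonoid.powers c) _ inferInstance
  have hunit : IsUnit ((algebraMap S E) (algebraMap R S c)) :=
    IsUnit.mk0 _ ((map_ne_zero_iff _ hinjE).2 hc)
  let toE : Sc →+* E := IsLocalization.Away.lift (algebraMap R S c) hunit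
  have htoE : Function.Injective toE :=
    IsLocalization.lift_injective_iff _ |>.2 fun x y => ⟨fun h => by
        rw [IsLocalization.injective Sc (powers_le_nonZeroDivisors_of_noZeroDivisors hcS) h],
      fun h => by rw [Subtype.val_injective h]⟩
  have htoS : toE.comp (algebraMap S Sc) = algebraMap S E := IsLocalization.Away.lift_comp _ _
  -- smoothness over the localisation
  let bV : Spec (CommRingCat.of Sc) ⟶ Spec (CommRingCat.of S) := Spec.map (CommRingCat.ofHom (algebraMap S Sc))
  have hsm : ∀ i, Smooth (pullback.snd (gs i) bV) := fun i => by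
    have hmem : ∀ z ∈ AlgApprox.adj ψ (tt i), z ∈ toE.range := by
      intro z hz
      induction hz using Algebra.adjoin_induction with
      | mem x hx =>
        obtain ⟨y, hy⟩ : den x ∣ c :=
          ((Finset.dvd_prod_of_mem den (s := tt i) hx).trans
            (Finset.dvd_prod_of_mem (fun i => ∏ x ∈ tt i, den x) (Finset.mem_univ i))).trans (dvd_mul_left _ _)
        refine ⟨algebraMap S Sc (⟨_, hdenS x⟩ * algebraMap R S y) * IsLocalization.Away.invSelf (algebraMap R S c), ?_⟩
        refine mul_right_cancel₀ ((map_ne_zero_iff _ hinjE).2 hc) ?_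
        rw [map_mul, mul_assoc, show algebraMap R E c = toE (algebraMap S Sc (algebraMap R S c)) from
          (congr($htoS (algebraMap R S c)) : _).symm, ← map_mul, mul_comm (IsLocalization.Away.invSelf _),
          IsLocalization.Away.mul_invSelf, map_one, mul_one]
        rw [show toE (algebraMap S Sc (⟨_, hdenS x⟩ * algebraMap R S y)) = algebraMap S E (⟨_, hdenS x⟩ * algebraMap R S y)
          from congr($htoS _), show toE (algebraMap S Sc (algebraMap R S c)) = algebraMap R E c from (congr($htoS (algebraMap R S c)) : _)]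
        show algebraMap R E (den x) * x * algebraMap R E y = x * algebraMap R E c
        rw [hy, map_mul]; ring
      | algebraMap r => exact (by
          obtain ⟨s, hs⟩ := r.2
          exact ⟨algebraMap S Sc s, (congr($htoS s) : _).trans hs⟩)
      | add x y _ _ hx hy => exact add_mem hx hy
      | mul x y _ _ hx hy => exact mul_mem hx hy
    let inv' : toE.range →+* Sc := (RingEquiv.ofBijective toE.rangeRestrict
      ⟨fun a b h => htoE (congrArg Subtype.val h), toE.rangeRestrict_surjective⟩).symm.toRingHom
    have hinv : ∀ z, toE (inv' z) = z.1 := fun z => congrArg Subtype.val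
      ((RingEquiv.ofBijective toE.rangeRestrict
        ⟨fun a b h => htoE (congrArg Subtype.val h), toE.rangeRestrict_surjective⟩).apply_symm_apply z)
    let χ : (AlgApprox.rings ψ).obj (tt i) ⟶ CommRingCat.of Sc := CommRingCat.ofHom
      (inv'.comp ((AlgApprox.adj ψ (tt i)).val.toRingHom.codRestrict toE.range fun z => hmem z.1 z.2))
    have hχ : AlgApprox.str ψ (tt i) ≫ χ = CommRingCat.ofHom (algebraMap S Sc) := by
      refine CommRingCat.hom_ext (RingHom.ext fun s => htoE ((hinv _).trans ?_))
      exact (congr($htoS s) : _).symm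
    haveI := htt i
    have h : IsPullback (pullback.fst (pullback.snd (gs i) (Spec.map (AlgApprox.str ψ (tt i)))) (Spec.map χ) ≫
        pullback.fst _ _) (pullback.snd _ (Spec.map χ)) (gs i) bV := by
      have := (IsPullback.of_hasPullback (pullback.snd (gs i) (Spec.map (AlgApprox.str ψ (tt i))))
        (Spec.map χ)).paste_horiz (IsPullback.of_hasPullback (gs i) (Spec.map (AlgApprox.str ψ (tt i))))
      rwa [show Spec.map χ ≫ Spec.map (AlgApprox.str ψ (tt i)) = bV by rw [← Spec.map_comp, hχ]] at this
    rw [← h.isoPullback_inv_snd]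
    infer_instance
  -- the cover
  let jc := Spec.map (CommRingCat.ofHom (algebraMap R Rc))
  haveI : IsOpenImmersion jc := IsOpenImmersion.of_isLocalization c
  let φc : Rc →+* Sc := Localization.awayMap (algebraMap R S) c
  have hφc : φc.comp (algebraMap R Rc) = (algebraMap S Sc).comp (algebraMap R S) := IsLocalization.map_comp _
  have hφinj : Function.Injective φc := IsLocalization.map_injective_of_injective' (Submonoid.powers c) S Sc
    (N := Submonoid.powers (algebraMap R S c))
    (Submonoid.powers_le.2 (Submonoid.mem_powers (algebraMap R S c))) (fun ⟨n, hn⟩ => pow_ne_zero n hcS hn) hRS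
  let v₀ := Spec.map (CommRingCat.ofHom φc)
  let v : Spec (CommRingCat.of Sc) ⟶ (jc.opensRange : Scheme.{u}) := v₀ ≫ jc.isoOpensRange.hom
  have hv : v ≫ jc.opensRange.ι = bV ≫ Spec.map ι₀ := by
    rw [Category.assoc, Scheme.Hom.isoOpensRange_hom_ι, ← Spec.map_comp, ← Spec.map_comp]
    exact congrArg Spec.map (CommRingCat.hom_ext hφc)
  letI := φc.toAlgebra
  haveI : IsScalarTower R Rc Sc := IsScalarTower.of_algebraMap_eq fun r => (congr($hφc r) : _).symm
  haveI : IsLocalization (Algebra.algebraMapSubmonoid S (Submonoid.powers c)) Sc := by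
    rw [show Algebra.algebraMapSubmonoid S (Submonoid.powers c) = Submonoid.powers (algebraMap R S c) from
      Submonoid.map_powers _ c]
    infer_instance
  haveI : Module.Finite Rc Sc := Module.Finite.of_isLocalization R S (Submonoid.powers c)
  haveI : Module.Flat Rc Sc := by
    haveI := hgood.2.1
    haveI := FlatMisc.SpreadRed.free_baseChange c₀ S
    have hu : IsUnit (algebraMap R Rc c₀) :=
      isUnit_of_dvd_unit (map_dvd (algebraMap R Rc) (dvd_mul_right c₀ _)) (IsLocalization.Away.algebraMap_isUnit c)
    letI : Algebra (Localization.Away c₀) Rc := (IsLocalization.Away.lift c₀ hu).toAlgebra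
    haveI : IsScalarTower R (Localization.Away c₀) Rc :=
      IsScalarTower.of_algebraMap_eq fun r => (IsLocalization.Away.lift_eq c₀ hu r).symm
    let b : S →ₗ[R] Sc := (IsScalarTower.toAlgHom R S Sc).toLinearMap
    haveI : IsLocalizedModule (Submonoid.powers c) b := isLocalizedModule_iff_isLocalization.2 ‹_›
    haveI : Module.Free Rc (Rc ⊗[Localization.Away c₀] (Localization.Away c₀ ⊗[R] S)) := inferInstance
    haveI : Module.Free Rc (Rc ⊗[R] S) :=
      Module.Free.of_equiv (TensorProduct.AlgebraTensorModule.cancelBaseChange R (Localization.Away c₀) Rc Rc S)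
    haveI : Module.Free Rc Sc :=
      Module.Free.of_equiv (IsLocalizedModule.isBaseChange (Submonoid.powers c) Rc b).equiv
    infer_instance
  haveI : IsFinite v₀ := (IsFinite.SpecMap_iff _).2 (RingHom.finite_algebraMap.2 ‹_›)
  haveI : Flat v₀ := HasRingHomProperty.Spec_iff.2 (RingHom.flat_algebraMap_iff.2 ‹_›)
  haveI : IsLocallyNoetherian (jc.opensRange : Scheme.{u}) := LocallyOfFiniteType.isLocallyNoetherian jc.opensRange.ι
  haveI : Surjective v₀ := (MorLib.RUH.surjective_SpecMap_iff φc).2
    ((RingHom.IsIntegral.comap_surjective (RingHom.Finite.to_isIntegral (RingHom.finite_algebraMap.2 ‹Module.Finite Rc Sc›))) hφinj)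
  haveI : UniversallyInjective v₀ := (MorLib.RUH.universallyInjective_SpecMap_iff φc).2
    (radicial_of_pow (R := R) q hrad φc fun z => by
      obtain ⟨⟨s, ⟨_, n, rfl⟩⟩, hs⟩ := IsLocalization.surj (Submonoid.powers (algebraMap R S c)) z
      obtain ⟨a, ha⟩ := hpow s
      refine ⟨IsLocalization.mk' Rc a (⟨c ^ (n * q), n * q, rfl⟩ : Submonoid.powers c), ?_⟩
      refine (IsLocalization.map_units Sc (⟨_, n * q, rfl⟩ : Submonoid.powers (algebraMap R S c))).mul_left_injective ?_
      have e1 : algebraMap S Sc ((algebraMap R S c) ^ (n * q)) = φc (algebraMap R Rc (c ^ (n * q))) := by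
        rw [← map_pow]; exact (congr($hφc _) : _).symm
      show φc _ * algebraMap S Sc ((algebraMap R S c) ^ (n * q)) = z ^ q * algebraMap S Sc ((algebraMap R S c) ^ (n * q))
      conv_lhs => rw [e1, ← map_mul, IsLocalization.mk'_spec Rc a (⟨c ^ (n * q), n * q, rfl⟩ : Submonoid.powers c)]
      rw [show (algebraMap R S c) ^ (n * q) = ((algebraMap R S c) ^ n) ^ q from pow_mul _ _ _, map_pow, ← mul_pow]
      refine ((congr($hφc a) : _).trans ?_).trans (congrArg (· ^ q) hs).symm
      rw [← map_pow, ← ha]; rfl)
  haveI : UniversallyInjective v :=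
    MorphismProperty.comp_mem @UniversallyInjective v₀ jc.isoOpensRange.hom ‹_› inferInstance
  refine ⟨jc.opensRange, Spec (CommRingCat.of Sc), v, ?_, inferInstance, inferInstance,
    ⟨inferInstance, inferInstance, GeomRedFlat5.lfp_of_noetherian v⟩, t + 1, ?_⟩
  · refine ⟨(⟨⊥, Ideal.isPrime_bot⟩ : PrimeSpectrum Rc), ?_⟩
    refine PrimeSpectrum.ext (le_antisymm (fun r hr => ?_) bot_le)
    exact IsLocalization.injective Rc (powers_le_nonZeroDivisors_of_noZeroDivisors hc)
      ((Ideal.mem_bot.1 hr).trans (map_zero _).symm)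
  let m : pullback f (v ≫ jc.opensRange.ι) ⟶ pullback f (Spec.map ι₀) :=
    pullback.lift (pullback.fst _ _) (pullback.snd _ _ ≫ bV)
      (pullback.condition.trans ((congrArg (pullback.snd _ _ ≫ ·) hv).trans (Category.assoc _ _ _).symm))
  have sq : IsPullback m (pullback.snd f (v ≫ jc.opensRange.ι)) f'' bV := by
    refine IsPullback.of_right ?_ (pullback.lift_snd _ _ _) (IsPullback.of_hasPullback f (Spec.map ι₀))
    rw [pullback.lift_fst, ← hv]
    exact IsPullback.of_hasPullback _ _
  refine ⟨fun i => (J'' i).comap m, ⟨fun i j hij => Scheme.IdealSheafData.comap_mono m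
    (Scheme.IdealSheafData.vanishingIdeal_antimono ?_), ?_, ?_, fun i => MorLib.IdealFG.isFG_comap ?_ m, fun i => ?_⟩⟩
  · revert i j
    show Antitone C
    refine Fin.antitone_iff_succ_le.2 fun i => ?_
    induction i using Fin.cases with
    | zero => exact fun _ _ => trivial
    | succ i =>
      rw [← Fin.succ_castSucc]
      exact closure_mono (Set.image_mono (hT (Fin.castSucc_le_succ i)))
  · have : C (Fin.last (t + 1)) = ⊥ := by
      rw [← Fin.succ_last]
      refine Closeds.ext ?_
      show closure (e '' (T (Fin.last t) : Set _)) = ∅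
      rw [hTl, Closeds.coe_bot, Set.image_empty, closure_empty]
    simp only [J'', this, Scheme.IdealSheafData.vanishingIdeal_bot, Scheme.IdealSheafData.comap_top]
  · rw [Scheme.IdealSheafData.support_comap]
    show m ⁻¹' ((J'' 0).support : Set _) = Set.univ
    rw [Scheme.IdealSheafData.coe_support_vanishingIdeal]
    exact Set.preimage_univ
  · intro U
    haveI := IsLocallyNoetherian.component_noetherian U
    exact (isNoetherianRing_iff_ideal_fg _).1 ‹_› _
  · obtain ⟨p, hp⟩ := isPullback_sι m (J'' i.castSucc) (J'' i.succ)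
    haveI := hsm i
    rw [← (hp.paste_vert sq).isoPullback_hom_snd]
    infer_instance

end Groth.Agent.SmStrat
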